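import Cfsg.Agent.CTwoAbelian.IcoCol
import Cfsg.Agent.CpQuot.Basic
import Cfsg.Agent.Coset.Chain
import Cfsg.Agent.Classical.SmallPSL
import Cfsg.Agent.S3378
import Cfsg.Prelude.Def_EvenType
import Mathlib.FieldTheory.Finite.Basic

/-!
# Perfect central `2`-extensions of `A₅`

Only `A₅` and `SL₂(5)`.
-/

set_option autoImplicit false
set_option linter.style.haveILetI false
set_option maxRecDepth 100000

namespace CfsgLib.CTwoAbelian

open Subgroup CfsgLib.Coset
open scoped commutatorElement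

universe u

variable {K : Type u} [Group K] [Finite K]

/-- `L₂(4)` is `A₅`. -/
theorem nonempty_psl_two_four_alt {F : Type} [Field F] [Fintype F] (hF : Fintype.card F = 4) :
    Nonempty (Matrix.ProjectiveSpecialLinearGroup (Fin 2) F ≃* alternatingGroup (Fin 5)) := by
  haveI := CfsgLib.Linear.isSimpleGroup_PSL (ι := Fin 2) (F := F)
    (Or.inr (CfsgLib.Linear.Small.exists_sq_ne_one (by omega)))
  haveI : Fact (Nat.Prime 5) := ⟨by norm_num⟩
  have hc := CfsgLib.Linear.Small.card_psl_two hF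
  norm_num [-Nat.card_eq_fintype_card] at hc
  have h : Nat.card (Matrix.ProjectiveSpecialLinearGroup (Fin 2) F) = 60 := by omega
  obtain ⟨P⟩ : Nonempty (Sylow 5 (Matrix.ProjectiveSpecialLinearGroup (Fin 2) F)) := Sylow.nonempty
  refine CfsgLib.Dickson.OrderSixty.nonempty_mulEquiv h P fun hn => ?_
  have hP := CfsgLib.Dickson.OrderSixty.card_eq_five h P
  rcases hn.eq_bot_or_eq_top with h1 | h1
  · rw [h1, Subgroup.card_bot] at hP
    norm_num at hP
  · rw [h1, Subgroup.card_top, h] at hP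
    norm_num at hP

/-- An element with a central `m`-th power in a `2`-group, `m` odd, can be corrected. -/
theorem exists_lift {Z : Subgroup K} (hZc : Z ≤ center K) (hZ : IsPGroup 2 Z) {m : ℕ} (hm : Odd m)
    {a₀ : K} (ha : a₀ ^ m ∈ Z) : ∃ z ∈ Z, (a₀ * z) ^ m = 1 := by
  have hcop : Nat.Coprime m (Nat.card Z) := by
    obtain ⟨k, hk⟩ := IsPGroup.iff_card.1 hZ
    rw [hk]
    exact Nat.Coprime.pow_right k (Nat.coprime_two_right.2 hm)
  obtain ⟨w, hw⟩ := (powCoprime hcop.symm).surjective (⟨a₀ ^ m, ha⟩⁻¹ : Z)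
  refine ⟨w, w.2, ?_⟩
  rw [Commute.mul_pow ((mem_center_iff.1 (hZc w.2) a₀) : Commute a₀ w)]
  have := congrArg Subtype.val hw
  simp only [powCoprime, Equiv.coe_fn_mk, Subgroup.coe_pow, Subgroup.coe_inv] at this
  rw [this, mul_inv_cancel]

/-- A perfect central `2`-extension of `A₅` is `A₅` or `SL₂(5)`. -/
theorem center_cases (hK : Cfsg.IsQuasisimple K) (hZ : IsPGroup 2 (center K))
    (e : K ⧸ center K ≃* alternatingGroup (Fin 5)) :
    center K = ⊥ ∨ Nonempty (K ≃* Matrix.SpecialLinearGroup (Fin 2) (ZMod 5)) := by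
  classical
  haveI := Fact.mk Nat.prime_two
  let π : K →* alternatingGroup (Fin 5) := e.toMonoidHom.comp (QuotientGroup.mk' (center K))
  have hπ : Function.Surjective π := e.surjective.comp (QuotientGroup.mk'_surjective _)
  have hker : ∀ x, π x = 1 ↔ x ∈ center K := fun x =>
    (MulEquiv.map_eq_one_iff e).trans (QuotientGroup.eq_one_iff x)
  have hA : Nat.card (alternatingGroup (Fin 5)) = 60 := by
    rw [nat_card_alternatingGroup]; simp [Nat.factorial]
  have hcard : Nat.card K = 60 * Nat.card (center K) := by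
    rw [card_eq_card_quotient_mul_card_subgroup (center K), Nat.card_congr e.toEquiv, hA]
  obtain ⟨A, B, hA3, hB5, hAB, hgen⟩ : ∃ A B : alternatingGroup (Fin 5), A ^ 3 = 1 ∧ B ^ 5 = 1 ∧
      (A * B) ^ 2 = 1 ∧ closure ({A, B} : Set (alternatingGroup (Fin 5))) = ⊤ := by
    let A : alternatingGroup (Fin 5) :=
      ⟨Equiv.swap 0 1 * Equiv.swap 0 3, show Equiv.Perm.sign _ = 1 by decide +kernel⟩
    let B : alternatingGroup (Fin 5) :=
      ⟨finRotate 5, show Equiv.Perm.sign _ = 1 by decide +kernel⟩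
    have h1 : A ^ 3 = 1 := Subtype.ext (by decide +kernel)
    have h2 : B ^ 5 = 1 := Subtype.ext (by decide +kernel)
    have h3 : (A * B) ^ 2 = 1 := Subtype.ext (by decide +kernel)
    have h1' : A ≠ 1 := fun h => absurd (congrArg Subtype.val h) (by decide +kernel)
    have h2' : B ≠ 1 := fun h => absurd (congrArg Subtype.val h) (by decide +kernel)
    have h3' : A * B ≠ 1 := fun h => absurd (congrArg Subtype.val h) (by decide +kernel)
    refine ⟨A, B, h1, h2, h3, ?_⟩
    set H := closure ({A, B} : Set (alternatingGroup (Fin 5)))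
    have hmA : A ∈ H := subset_closure (by simp)
    have hmB : B ∈ H := subset_closure (by simp)
    haveI : Fact (Nat.Prime 3) := ⟨Nat.prime_three⟩
    haveI : Fact (Nat.Prime 5) := ⟨by norm_num⟩
    have d3 := Subgroup.orderOf_dvd_natCard H hmA
    rw [orderOf_eq_prime h1 h1'] at d3
    have d5 := Subgroup.orderOf_dvd_natCard H hmB
    rw [orderOf_eq_prime h2 h2'] at d5
    have d2 := Subgroup.orderOf_dvd_natCard H (mul_mem hmA hmB)
    rw [orderOf_eq_prime h3 h3'] at d2
    have h30 : 30 ∣ Nat.card H := by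
      rw [show 30 = Nat.lcm (Nat.lcm 2 3) 5 by decide]
      exact Nat.lcm_dvd (Nat.lcm_dvd d2 d3) d5
    have hmul := H.card_mul_index
    rw [hA] at hmul
    rcases (show H.index = 1 ∨ H.index = 2 by
      obtain ⟨j, hj⟩ := h30
      rw [hj] at hmul
      have : j * H.index = 2 := by nlinarith
      exact (Nat.dvd_prime Nat.prime_two).1 ⟨j, by rw [← this, mul_comm]⟩) with h | h
    · exact Subgroup.index_eq_one.1 h
    · exfalso
      haveI := Subgroup.normal_of_index_eq_two h
      have hfin : (⊥ : Subgroup (alternatingGroup (Fin 5))) ≠ H := fun hh => h1'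
        (Subgroup.mem_bot.1 (hh.symm ▸ hmA))
      rcases Subgroup.Normal.eq_bot_or_eq_top (inferInstance : H.Normal) with h0 | h0
      · exact hfin h0.symm
      · rw [h0, Subgroup.index_top] at h; omega
  obtain ⟨a₀, ha₀⟩ := hπ A
  obtain ⟨b₀, hb₀⟩ := hπ B
  obtain ⟨za, hza, ha⟩ := exists_lift le_rfl hZ (m := 3) (by decide) (a₀ := a₀)
    ((hker _).1 (by rw [map_pow, ha₀, hA3]))
  obtain ⟨zb, hzb, hb⟩ := exists_lift le_rfl hZ (m := 5) (by decide) (a₀ := b₀)
    ((hker _).1 (by rw [map_pow, hb₀, hB5]))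
  set a := a₀ * za
  set b := b₀ * zb
  have hπa : π a = A := by rw [map_mul, ha₀, (hker za).2 hza, mul_one]
  have hπb : π b = B := by rw [map_mul, hb₀, (hker zb).2 hzb, mul_one]
  set c := (a * b) ^ 2
  have hc : c ∈ center K := (hker _).1 (by rw [map_pow, map_mul, hπa, hπb, hAB])
  have hca : c * a = a * c := (mem_center_iff.1 hc a).symm
  have hcb : c * b = b * c := (mem_center_iff.1 hc b).symm
  -- the table of `1800` cosets kills the thirtieth power
  have hc30 : c ^ 30 = 1 := by
    set L := [a, a⁻¹, b, b⁻¹]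
    have ht : TableOK L (⊥ : Subgroup K) IcoCol.E IcoCol.iv 1800 IcoCol.Rep IcoCol.Tb := by
      refine tableOK_of_check ?_ IcoCol.hR IcoCol.hdefs IcoCol.hsteps IcoCol.htable ?_
        (fun w hw => by simp [IcoCol.subs] at hw)
      · intro l
        rcases l with _ | _ | _ | _ | l
        · rfl
        · exact (inv_inv a).symm
        · rfl
        · exact (inv_inv b).symm
        · simp [L, IcoCol.iv, fl, Nat.beq]
      · intro w hw
        simp only [IcoCol.rels, List.mem_cons, List.not_mem_nil, or_false] at hw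
        rcases hw with rfl | rfl | rfl | rfl | rfl | rfl | rfl | rfl
        · simp [L, fl]
        · simp [L, fl]
        · simp [L, fl]
        · simp [L, fl]
        · simpa [L, fl, pow_succ, mul_assoc] using ha
        · simpa [L, fl, pow_succ, mul_assoc] using hb
        · have : a⁻¹ * c⁻¹ * a * c = 1 := by
            rw [mul_assoc (a⁻¹ * c⁻¹), ← hca]; group
          simpa [L, c, fl, pow_succ, mul_assoc, mul_inv_rev] using this
        · have : b⁻¹ * c⁻¹ * b * c = 1 := by
            rw [mul_assoc (b⁻¹ * c⁻¹), ← hcb]; group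
          simpa [L, c, fl, pow_succ, mul_assoc, mul_inv_rev] using this
    have h := ht.ev_mem (by norm_num) (w := (List.replicate 30 [0, 2, 0, 2]).flatten)
      (fun l hl => by
        obtain ⟨v, hv, hlv⟩ := List.mem_flatten.1 hl
        rw [List.eq_of_mem_replicate hv] at hlv
        simp [L] at hlv ⊢
        omega)
      (Nat.eq_of_beq_eq_true (by decide +kernel))
    rw [mem_bot, ← pow_ev] at h
    simpa [L, c, fl, pow_succ, mul_assoc] using h
  have hc2 : c ^ 2 = 1 := by
    obtain ⟨k, hk⟩ := hZ ⟨c, hc⟩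
    have hk' : c ^ 2 ^ k = 1 := congrArg Subtype.val hk
    have hd := Nat.dvd_gcd (orderOf_dvd_of_pow_eq_one hc30) (orderOf_dvd_of_pow_eq_one hk')
    have h2 : Nat.gcd 30 (2 ^ k) ∣ 2 := by
      have hcop : Nat.Coprime 15 (2 ^ k) := Nat.Coprime.pow_right k (by norm_num)
      rw [show (30 : ℕ) = 15 * 2 from rfl, hcop.gcd_mul_left_cancel 2]
      exact Nat.gcd_dvd_left _ _
    exact orderOf_dvd_iff_pow_eq_one.1 (hd.trans h2)
  -- the map from the presented group
  let f := PresentedGroup.toGroup (Cfsg.Agent.S3378.lift_rels a b c ha hb hc2 hca hcb rfl)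
  have hf : Function.Surjective f := by
    rw [← MonoidHom.range_eq_top]
    have h1 : f.range.map π = ⊤ := by
      rw [eq_top_iff, ← hgen, closure_le]
      rintro x (rfl | rfl)
      · exact ⟨a, ⟨PresentedGroup.of 0, PresentedGroup.toGroup.of _⟩, hπa⟩
      · exact ⟨b, ⟨PresentedGroup.of 1, PresentedGroup.toGroup.of _⟩, hπb⟩
    refine top_le_iff.1 (CfsgLib.CpQuot.perfect hK ▸ ?_)
    rw [_root_.commutator_def, Subgroup.commutator_le]
    have hdec : ∀ x : K, ∃ r ∈ f.range, ∃ z ∈ center K, x = r * z := fun x => by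
      obtain ⟨r, hr, e'⟩ := (h1.symm ▸ mem_top (π x) : π x ∈ f.range.map π)
      exact ⟨r, hr, r⁻¹ * x, (hker _).1 (by rw [map_mul, map_inv, e', inv_mul_cancel]),
        (mul_inv_cancel_left r x).symm⟩
    intro x _ y _
    obtain ⟨r, hr, z, hz, rfl⟩ := hdec x
    obtain ⟨s, hs, w, hw, rfl⟩ := hdec y
    have hz' : ∀ g, g * z = z * g := fun g => mem_center_iff.1 hz g
    have hw' : ∀ g, g * w = w * g := fun g => mem_center_iff.1 hw g
    have : ⁅r * z, s * w⁆ = ⁅r, s⁆ := by
      simp only [commutatorElement_def, mul_inv_rev]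
      calc r * z * (s * w) * (z⁻¹ * r⁻¹) * (w⁻¹ * s⁻¹) = r * (z * s) * w * z⁻¹ * r⁻¹ * w⁻¹ * s⁻¹ := by group
        _ = r * s * (z * w) * z⁻¹ * r⁻¹ * w⁻¹ * s⁻¹ := by rw [← hz' s]; group
        _ = r * s * (w * z) * z⁻¹ * r⁻¹ * w⁻¹ * s⁻¹ := by rw [hw' z]
        _ = r * s * (w * r⁻¹) * w⁻¹ * s⁻¹ := by group
        _ = r * s * (r⁻¹ * w) * w⁻¹ * s⁻¹ := by rw [hw' r⁻¹]
        _ = r * s * r⁻¹ * s⁻¹ := by group
    rw [this, commutatorElement_def]
    exact mul_mem (mul_mem (mul_mem hr hs) (inv_mem hr)) (inv_mem hs)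
  obtain ⟨e5⟩ := Cfsg.Agent.S3378.pres_equiv
  obtain ⟨hfin, hle⟩ := Cfsg.Agent.S3378.pres_card
  have hK120 : Nat.card K ≤ 120 := (Nat.card_le_card_of_surjective f hf).trans hle
  rcases (show Nat.card (center K) = 1 ∨ Nat.card (center K) = 2 by
    have : 0 < Nat.card (center K) := Nat.card_pos
    omega) with h | h
  · exact Or.inl (Subgroup.card_eq_one.1 h)
  · right
    have hb : Function.Bijective f := hf.bijective_of_nat_card_le (by
      rw [hcard, h]; exact hle)
    exact ⟨(MulEquiv.ofBijective f hb).symm.trans e5⟩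

end CfsgLib.CTwoAbelian
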