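import Cfsg.Agent.Coset.Table
import Cfsg.Agent.CTwoAbelian.IcoColData

set_option autoImplicit false
set_option maxRecDepth 100000

open CfsgLib.Coset

/-! The group `⟨a, b | a³ = b⁵ = 1, (ab)² central⟩` has a table of 1800 cosets. -/

namespace CfsgLib.CTwoAbelian.IcoCol

/-- The inverse letters. -/
noncomputable def iv (x : Nat) : Nat :=
  cond (Nat.beq x 0) 1 (cond (Nat.beq x 1) 0 (cond (Nat.beq x 2) 3 (cond (Nat.beq x 3) 2 x)))

/-- The relators. -/
def rels : List (List Nat) := [[0, 1], [1, 0], [2, 3], [3, 2], [0, 0, 0], [2, 2, 2, 2, 2], [1, 3, 1, 3, 1, 0, 0, 2, 0, 2], [3, 3, 1, 3, 1, 2, 0, 2, 0, 2]]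

theorem hR : checkRules rels subs R = true := by decide +kernel
theorem hdefs : checkDefs E 4 11 1800 = true := by decide +kernel
theorem hsteps : checkChunks E iv R 4 5 1800 29 C = true := by decide +kernel
theorem htable : checkTable E iv (1800 + chunk * 29) 1800 4 11 2 Rep Ref Tb = true := by decide +kernel

end CfsgLib.CTwoAbelian.IcoCol
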